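import Cfsg.Agent.Lib.helper3.Sz8TC.Main

/-! the presented group has at most 29120 elements (helper3) -/

set_option autoImplicit false
set_option maxRecDepth 100000

namespace Cfsg.Agent.Lib.Helper3.Sz8TC

open Cfsg.Agent.Lib.Helper12.TC Cfsg.Agent.Lib.Helper12.TCG Cfsg.Agent.Lib.Helper3.Sz8TC.Pres

theorem hswH : ∀ w ∈ sw, wprod Pres.v w ∈ Subgroup.zpowers (Pres.v 2) := by
  intro w hw
  have : w = [2] := by simpa [sw] using hw
  rw [this, wprod_cons, wprod_nil, mul_one]
  exact Subgroup.mem_zpowers _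

theorem index_bound : Finite (Pres.Grp ⧸ Subgroup.zpowers (Pres.v 2)) ∧
    Nat.card (Pres.Grp ⧸ Subgroup.zpowers (Pres.v 2)) ≤ cN :=
  Cfsg.Agent.Lib.Helper3.TCUpper.index_le Pres.v 5 Pres.cIV (by decide) Pres.hiv Pres.hvinv Pres.hvge
    Pres.hgen Pres.baseL Pres.hbase Pres.hlet sw hletsw (Subgroup.zpowers (Pres.v 2)) hswH F RW finrecs rotW
    chunks cD cK cR0 cR cN hdefs hchunks hcover hrelc hfin hlen

theorem v2_pow : Pres.v 2 ^ 7 = 1 := by
  have h := Pres.hbase [2, 2, 2, 2, 2, 2, 2] (by decide)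
  simp only [wprod_cons, wprod_nil, mul_one] at h
  rw [← h]
  simp only [pow_succ, pow_zero, one_mul, mul_assoc]

/-- the presented group is finite of order at most 29120 -/
theorem card_le : Finite Pres.Grp ∧ Nat.card Pres.Grp ≤ 29120 := by
  have h := Cfsg.Agent.Lib.Helper3.TCUpper.card_le_of_index_le (Pres.v 2) 7 cN (by decide) v2_pow
    index_bound.1 index_bound.2
  exact h

end Cfsg.Agent.Lib.Helper3.Sz8TC
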