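import Cfsg.Agent.Lib.Helper12.TCG.WPres

/-!
A presentation of the Suzuki group of order 29120 on `x`, `d`, `w` (helper3).
The letters are `0` for `x`, `1` for the inverse of `x`, `2` for `d`, `3` for the inverse of `d`, `4` for `w`.
-/

set_option autoImplicit false
set_option maxRecDepth 100000

namespace Cfsg.Agent.Lib.Helper3.Sz8TC.Pres

open Cfsg.Agent.Lib.Helper12.TC Cfsg.Agent.Lib.Helper12.TCG

/-- the base words: the relators, the letters with their inverses, the empty word -/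
def baseL : List (List ℕ) :=
  [[2, 2, 2, 2, 2, 2, 2],
   [0, 0, 0, 0],
   [0, 0, 2, 0, 3, 1, 1, 2, 1, 3],
   [0, 0, 2, 2, 0, 3, 3, 1, 1, 2, 2, 1, 3, 3],
   [2, 2, 2, 0, 3, 3, 3, 2, 2, 1, 1, 3, 3, 1, 1, 2, 1, 3, 1],
   [4, 2, 4, 2],
   [4, 0, 0, 4, 0, 4, 1],
   [4, 4],
   [0, 1],
   [1, 0],
   [2, 3],
   [3, 2],
   []]

/-- the inverse letters -/
def cIV : ℕ := 18364758544493060865

/-- the presented group -/
abbrev Grp : Type := WPres.Grp 5 baseL

/-- the letters as elements of the presented group -/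
def v : ℕ → Grp := WPres.v 5 baseL

theorem hiv : ivK cIV 5 = true := by decide

theorem hlet : lettersK 5 baseL = true := by decide

theorem hbase : ∀ b ∈ baseL, wprod v b = 1 := WPres.hbase 5 baseL

theorem hvge : ∀ s, ¬ s < 5 → v s = 1 := WPres.hvge 5 baseL

theorem hvinv : ∀ s < 5, v (invS cIV s) = (v s)⁻¹ :=
  WPres.hvinv 5 baseL cIV (by decide)

theorem hgen : ∀ γ : Grp, γ ∈ Subgroup.closure {y | ∃ x < 5, y = v x} := WPres.hgen 5 baseL

/-- the universal property -/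
theorem hliftG {K : Type*} [Group K] (f : ℕ → K) (hw : ∀ b ∈ baseL, wprod f b = 1) :
    ∃ ρ : Grp →* K, ∀ x < 5, ρ (v x) = f x :=
  WPres.hlift 5 baseL hlet f hw

theorem v_one : v 1 = (v 0)⁻¹ := hvinv 0 (by decide)

theorem v_three : v 3 = (v 2)⁻¹ := hvinv 2 (by decide)

theorem v_four_inv : (v 4)⁻¹ = v 4 := (hvinv 4 (by decide)).symm

end Cfsg.Agent.Lib.Helper3.Sz8TC.Pres
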