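import Cfsg.Agent.Lib.helper3.Sz8TC.Chk0
import Cfsg.Agent.Lib.helper3.Sz8TC.Chk1
import Cfsg.Agent.Lib.helper3.Sz8TC.Chk2
import Cfsg.Agent.Lib.helper3.Sz8TC.Chk3
import Cfsg.Agent.Lib.helper3.Sz8TC.Chk4
import Cfsg.Agent.Lib.helper3.Sz8TC.Chk5
import Cfsg.Agent.Lib.helper3.Sz8TC.Chk6
import Cfsg.Agent.Lib.helper3.Sz8TC.Fin
import Cfsg.Agent.Lib.helper3.TCUpper

/-! the bound for the index (generated, helper3) -/

set_option autoImplicit false
set_option maxRecDepth 100000
set_option linter.unusedSimpArgs false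

namespace Cfsg.Agent.Lib.Helper3.Sz8TC

open Cfsg.Agent.Lib.Helper12.TC Cfsg.Agent.Lib.Helper12.TCG Cfsg.Agent.Lib.Helper3.Sz8TC.Pres

/-- the chunks of the certificate -/
def chunks : List (ℕ × List ℕ) :=
  [(9001, c0), (11001, c1), (13001, c2), (15001, c3), (17001, c4), (19001, c5), (21001, c6)]

theorem hcover : coverK cD cK chunks = true := by decide +kernel

theorem hchunks : ∀ c ∈ chunks, chunkG cIV F RW cR0 c.2 c.1 = true := by
  unfold chunks
  simp only [List.forall_mem_cons, List.not_mem_nil, false_imp_iff, implies_true, and_true]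
  exact ⟨chunk0, chunk1, chunk2, chunk3, chunk4, chunk5, chunk6⟩

end Cfsg.Agent.Lib.Helper3.Sz8TC
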